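import Groth.Agent.MinVersLib.Idem

/-!
# Idempotent endomorphisms of coefficient rings fixing a formal element
-/

set_option autoImplicit false
set_option linter.style.haveILetI false

universe u v

open CategoryTheory

namespace MinVersLib

open ArtFun ArtFun.Art

variable {Λ : Type u} {k : Type u} [CommRing Λ] [Field k] [Algebra Λ k]
variable {F : Art Λ k ⥤ Type v}

theorem push_push {A B C : CRing Λ k} (u : FormalElt F A) (f : A.carrier →ₐ[Λ] B.carrier)
    (hf : B.res.comp f = A.res) (g : B.carrier →ₐ[Λ] C.carrier) (hg : C.res.comp g = B.res)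
    (h : C.res.comp (g.comp f) = A.res) : (u.push f hf).push g hg = u.push (g.comp f) h := by
  refine FormalElt.ext' fun n => ?_
  change F.map _ (F.map _ (u.elt n)) = F.map _ (u.elt n)
  rw [← ArtLib.map_comp_apply]
  refine congrArg (fun φ => F.map φ (u.elt n)) ?_
  refine ArtLib.trunc_hom_ext A (ArtLib.homSet_ext fun r => ?_)
  rfl

theorem push_id {A : CRing Λ k} (u : FormalElt F A) (h : A.res.comp (AlgHom.id Λ A.carrier) = A.res) :
    u.push (AlgHom.id Λ A.carrier) h = u := by
  refine FormalElt.ext' fun n => ?_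
  change F.map _ (u.elt n) = u.elt n
  rw [show CRing.truncMapOfHom (AlgHom.id Λ A.carrier) h n = 𝟙 _ from
    ArtLib.trunc_hom_ext A (ArtLib.homSet_ext fun r => rfl)]
  exact ArtLib.map_id_apply _ _

/-- The idempotent endomorphism attached to an endomorphism fixing a formal element. -/
theorem exists_idem_endo [IsNoetherianRing Λ] [Module.Finite Λ k] {R : CRing Λ k} (u : FormalElt F R)
    (θ : R.carrier →ₐ[Λ] R.carrier) (hθ : R.res.comp θ = R.res) (hu : u.push θ hθ = u) :
    ∃ (e : R.carrier →ₐ[Λ] R.carrier) (he : R.res.comp e = R.res), u.push e he = u ∧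
      (∀ r, e (e r) = e r) ∧ ∀ r, ∃ z, e r - θ z ∈ IsLocalRing.maximalIdeal R.carrier ^ 2 := by
  choose E hEE hEt hEN hEF using fun n => exists_idem (CRing.truncMapOfHom θ hθ n)
  have hcomm : ∀ n (x : R.trunc (n + 1)), R.truncMap n (E (n + 1) x) = E n (R.truncMap n x) := by
    intro n x
    obtain ⟨N₁, h₁⟩ := hEN n
    obtain ⟨N₂, h₂⟩ := hEN (n + 1)
    have hsc : Function.Semiconj (R.truncMap n) (CRing.truncMapOfHom θ hθ (n + 1))
        (CRing.truncMapOfHom θ hθ n) := fun y =>
      ArtLib.hom_congr (CRing.truncMapOfHom_truncMap θ hθ n) y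
    have hM := hsc.iterate_right (max N₁ N₂)
    obtain ⟨hr, ht, -⟩ := h₂ (max N₁ N₂) (le_max_right _ _) x
    obtain ⟨w, hw⟩ := hr
    exact (h₁ (max N₁ N₂) (le_max_left _ _) (R.truncMap n x)).2.2 _
      ⟨R.truncMap n w, (hM w).symm.trans (congrArg _ hw)⟩
      ((hM _).symm.trans ((congrArg _ ht).trans (hM x)))
  obtain ⟨e, he, heE⟩ := ArtLib.exists_hom_of_compatible R
    (fun n => HomSet.map (E n) (R.truncHom n))
    (fun n => ArtLib.homSet_ext fun r => (hcomm n _).trans
      (congrArg (E n) (AlgHom.congr_fun (congrArg Subtype.val (CRing.truncMap_truncHom R n)) r)))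
  refine ⟨e, he, FormalElt.ext' fun n => ?_, fun r => ?_, fun r => ?_⟩
  · change F.map _ (u.elt n) = u.elt n
    rw [show CRing.truncMapOfHom e he n = E n from
      ArtLib.trunc_hom_ext R (ArtLib.homSet_ext fun r => heE n r)]
    exact hEF n (u.elt n) (congrFun (congrArg FormalElt.elt hu) n)
  · refine AlgHom.congr_fun (ArtLib.cring_hom_ext R (g := e.comp e) (g' := e) fun n s => ?_) r
    rw [AlgHom.comp_apply, heE, heE]
    change E n ((R.truncHom n).1 (e s)) = _
    rw [heE]
    exact hEE n _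
  · obtain ⟨z, hz⟩ := hEt 1 ((R.truncHom 1).1 r)
    obtain ⟨z, rfl⟩ := ArtLib.truncHom_surjective R 1 z
    refine ⟨z, (ArtLib.truncHom_eq_zero R 1 _).1 ?_⟩
    rw [map_sub, heE, sub_eq_zero]
    exact hz

end MinVersLib
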