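import Groth.Agent.ArtLib.Power
import Groth.Prelude.Def_W4sfdMinVersal

/-!
# Idempotents of the monoid of endomorphisms fixing a formal element
-/

set_option autoImplicit false
set_option linter.style.haveILetI false

universe u v

open CategoryTheory

namespace MinVersLib

open ArtFun ArtFun.Art

variable {Λ : Type u} {k : Type u} [CommRing Λ] [Field k] [Algebra Λ k]

theorem isArtinian_residue [Module.Finite Λ k] : IsArtinian Λ k := by
  obtain ⟨I, hI⟩ : ∃ I : Ideal Λ, I = RingHom.ker (algebraMap Λ k) := ⟨_, rfl⟩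
  have hmax : I.IsMaximal := by
    rw [hI, RingHom.ker_eq_comap_bot]
    exact Ideal.isMaximal_comap_of_isIntegral_of_isMaximal (R := Λ) (⊥ : Ideal k)
  let L := Λ ⧸ I
  letI : Field L := Ideal.Quotient.field I
  letI : Algebra L k := (Ideal.Quotient.lift I (algebraMap Λ k) fun a ha => (hI ▸ ha :)).toAlgebra
  haveI : IsScalarTower Λ L k := IsScalarTower.of_algebraMap_eq fun _ => rfl
  haveI : Module.Finite L k := Module.Finite.of_restrictScalars_finite Λ L k
  haveI : IsArtinian L k := inferInstance
  refine ⟨(InvImage.wf (fun N : Submodule Λ k => ({ carrier := N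
                                                    add_mem' := N.add_mem
                                                    zero_mem' := N.zero_mem
                                                    smul_mem' := fun c x hx => by
                                                      obtain ⟨a, rfl⟩ := Ideal.Quotient.mk_surjective c
                                                      rw [show (Ideal.Quotient.mk I a : L) • x = a • x from
                                                        algebraMap_smul L a x]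
                                                      exact N.smul_mem a hx } : Submodule L k))
    (wellFounded_lt (α := Submodule L k))).mono fun a b h => ?_⟩
  exact ⟨h.1, h.2⟩

theorem isArtinian_carrier [Module.Finite Λ k] (A : Art Λ k) : IsArtinian Λ A := by
  haveI := isArtinian_residue (Λ := Λ) (k := k)
  suffices ∀ (M : Type u) [AddCommGroup M] [Module A M], IsFiniteLength A M →
      ∀ [Module Λ M] [IsScalarTower Λ A M], IsArtinian Λ M from
    this A (isFiniteLength_iff_isNoetherian_isArtinian.2 ⟨inferInstance, inferInstance⟩)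
  intro M _ _ h
  induction h with
  | of_subsingleton => intros; infer_instance
  | @of_simple_quotient M _ _ N _ _ ih =>
    intros
    haveI hN : IsArtinian Λ N := ih
    haveI : IsArtinian Λ (M ⧸ N) := by
      obtain ⟨I, hI, ⟨e⟩⟩ := (isSimpleModule_iff_quot_maximal (R := A) (M := M ⧸ N)).1 inferInstance
      obtain rfl := IsLocalRing.eq_maximalIdeal hI
      let f : (A ⧸ IsLocalRing.maximalIdeal A) →ₐ[Λ] k :=
        Ideal.Quotient.liftₐ (IsLocalRing.maximalIdeal A) A.res
          fun a ha => (Art.mem_maximalIdeal_iff A a).1 ha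
      haveI : IsArtinian Λ (A ⧸ IsLocalRing.maximalIdeal A) :=
        isArtinian_of_injective f.toLinearMap fun x y hxy => by
          obtain ⟨a, rfl⟩ := Ideal.Quotient.mk_surjective x
          obtain ⟨b, rfl⟩ := Ideal.Quotient.mk_surjective y
          refine Ideal.Quotient.eq.2 ((Art.mem_maximalIdeal_iff A _).2 ?_)
          rw [map_sub, sub_eq_zero]
          exact hxy
      exact isArtinian_of_linearEquiv (e.symm.restrictScalars Λ)
    exact isArtinian_of_range_eq_ker (N.subtype.restrictScalars Λ) (N.mkQ.restrictScalars Λ)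
      (by rw [LinearMap.range_restrictScalars, LinearMap.ker_restrictScalars, Submodule.range_subtype,
        Submodule.ker_mkQ])

/-- Iterates of an endomorphism. -/
def iter {T : Art Λ k} (t : T ⟶ T) : ℕ → (T ⟶ T)
  | 0 => 𝟙 T
  | n + 1 => iter t n ≫ t

theorem iter_apply {T : Art Λ k} (t : T ⟶ T) (n : ℕ) (x : T) : iter t n x = t^[n] x := by
  induction n with
  | zero => rfl
  | succ n ih =>
    rw [Function.iterate_succ_apply', ← ih]
    rfl

theorem map_iter {F : Art Λ k ⥤ Type v} {T : Art Λ k} (t : T ⟶ T) (z : F.obj T) (h : F.map t z = z)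
    (n : ℕ) : F.map (iter t n) z = z := by
  induction n with
  | zero => exact ArtLib.map_id_apply _ _
  | succ n ih =>
    show F.map (iter t n ≫ t) z = z
    rw [ArtLib.map_comp_apply, ih, h]

/-- The eventual image and kernel. -/
theorem eventually_stable [IsNoetherianRing Λ] [Module.Finite Λ k] {T : Art Λ k} (t : T ⟶ T) :
    ∃ N, (∀ M, N ≤ M → ∀ x, t^[N] x ∈ Set.range (t^[M])) ∧
      ∀ M, ∀ a ∈ Set.range (t^[N]), t^[M] a = 0 → a = 0 := by
  haveI := ArtLib.finite_carrier T
  haveI := isArtinian_carrier T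
  let c : ℕ →o Submodule Λ T :=
    ⟨fun n => LinearMap.ker ((iter t n).toAlgHom.toLinearMap), monotone_nat_of_le_succ fun n x hx => by
      rw [LinearMap.mem_ker] at hx ⊢
      show t (iter t n x) = 0
      rw [show iter t n x = 0 from hx, map_zero]⟩
  let d : ℕ →o (Submodule Λ T)ᵒᵈ :=
    ⟨fun n => OrderDual.toDual (LinearMap.range ((iter t n).toAlgHom.toLinearMap)), monotone_nat_of_le_succ fun n => by
      rintro _ ⟨x, rfl⟩
      refine ⟨t x, ?_⟩
      show iter t n (t x) = iter t (n + 1) x
      rw [iter_apply, iter_apply]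
      rfl⟩
  obtain ⟨N₁, hN₁⟩ := monotone_stabilizes_iff_noetherian.2 inferInstance c
  obtain ⟨N₂, hN₂⟩ := monotone_stabilizes_iff_artinian.mpr inferInstance d
  refine ⟨max N₁ N₂, fun M hM x => ?_, fun M a ha hMa => ?_⟩
  · have hx : (t^[max N₁ N₂] x) ∈ OrderDual.ofDual (d (max N₁ N₂)) := ⟨x, iter_apply t _ x⟩
    rw [← hN₂ _ (le_max_right _ _), hN₂ M (by omega)] at hx
    obtain ⟨z, hz⟩ := hx
    exact ⟨z, (iter_apply t M z).symm.trans hz⟩
  · obtain ⟨z, rfl⟩ := ha
    have hz : z ∈ c (M + max N₁ N₂) :=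
      (iter_apply t _ z).trans ((Function.iterate_add_apply t M (max N₁ N₂) z).trans hMa)
    rw [← hN₁ _ (by omega), hN₁ (max N₁ N₂) (le_max_left _ _)] at hz
    exact (iter_apply t _ z).symm.trans hz

/-- The idempotent of the eventual image of an endomorphism. -/
theorem exists_idem [IsNoetherianRing Λ] [Module.Finite Λ k] {T : Art Λ k} (t : T ⟶ T) :
    ∃ e : T ⟶ T, (∀ x, e (e x) = e x) ∧ (∀ x, ∃ z, e x = t z) ∧
      (∃ N, ∀ M, N ≤ M → ∀ x, e x ∈ Set.range (t^[M]) ∧ t^[M] (e x) = t^[M] x ∧
        ∀ y ∈ Set.range (t^[M]), t^[M] y = t^[M] x → y = e x) ∧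
      ∀ {F : Art Λ k ⥤ Type v} (z : F.obj T), F.map t z = z → F.map e z = z := by
  obtain ⟨N, hR, hK⟩ := eventually_stable t
  have hinj : ∀ M a b, a ∈ Set.range (t^[N]) → b ∈ Set.range (t^[N]) → t^[M] a = t^[M] b → a = b := by
    rintro M _ _ ⟨a, rfl⟩ ⟨b, rfl⟩ h
    refine sub_eq_zero.1 (hK M _ ⟨a - b, ?_⟩ ?_)
    · rw [← iter_apply, ← iter_apply, ← iter_apply, map_sub]
    · rw [← iter_apply, map_sub, iter_apply, iter_apply, h, sub_self]
  have hex : ∀ x, ∃ y, y ∈ Set.range (t^[N]) ∧ t^[N] y = t^[N] x := fun x => by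
    obtain ⟨z, hz⟩ := hR (N + N) (by omega) x
    exact ⟨_, ⟨z, rfl⟩, by rw [← Function.iterate_add_apply, hz]⟩
  choose e he using hex
  have heu : ∀ x y, y ∈ Set.range (t^[N]) → t^[N] y = t^[N] x → y = e x := fun x y h1 h2 =>
    hinj N y (e x) h1 (he x).1 (h2.trans (he x).2.symm)
  have hit : ∀ n x, t^[n] x = (iter t n).toAlgHom x := fun n x => (iter_apply t n x).symm
  let E : T →ₐ[Λ] T :=
    { toFun := e
      map_one' := (heu 1 1 ⟨1, by rw [hit, map_one]⟩ rfl).symm
      map_zero' := (heu 0 0 ⟨0, by rw [hit, map_zero]⟩ rfl).symm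
      map_mul' := fun x y => (heu (x * y) (e x * e y) (by
        obtain ⟨a, ha⟩ := (he x).1
        obtain ⟨b, hb⟩ := (he y).1
        exact ⟨a * b, by rw [hit, map_mul, ← hit, ← hit, ha, hb]⟩)
        (by rw [hit, map_mul, ← hit, ← hit, (he x).2, (he y).2, hit, hit, ← map_mul, ← hit])).symm
      map_add' := fun x y => (heu (x + y) (e x + e y) (by
        obtain ⟨a, ha⟩ := (he x).1
        obtain ⟨b, hb⟩ := (he y).1
        exact ⟨a + b, by rw [hit, map_add, ← hit, ← hit, ha, hb]⟩)
        (by rw [hit, map_add, ← hit, ← hit, (he x).2, (he y).2, hit, hit, ← map_add, ← hit])).symm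
      commutes' := fun r => (heu _ _ ⟨algebraMap Λ T r, by rw [hit, AlgHom.commutes]⟩ rfl).symm }
  have hres : ∀ x, T.res (e x) = T.res x := fun x => by
    have h := congrArg T.res (he x).2
    rw [← iter_apply, ← iter_apply, Art.res_app, Art.res_app] at h
    exact h
  let e' : T ⟶ T := ⟨E, AlgHom.ext hres⟩
  refine ⟨e', fun x => (heu (e x) (e x) (he x).1 rfl).symm, fun x => ?_, ⟨N, fun M hM x => ?_⟩,
    fun {F} z hz => ?_⟩
  · obtain ⟨w, hw⟩ := (he x).1
    obtain ⟨z, hz⟩ := hR (N + 1) (Nat.le_succ N) w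
    refine ⟨t^[N] z, ?_⟩
    show e x = t (t^[N] z)
    rw [← Function.iterate_succ_apply' t N z, ← hw]
    exact hz.symm
  · obtain ⟨w, hw⟩ := (he x).1
    obtain ⟨d, hd⟩ := Nat.exists_eq_add_of_le hM
    have h1 : e x ∈ Set.range (t^[M]) := by
      rw [← hw]; exact hR M hM w
    have h2 : t^[M] (e x) = t^[M] x := by
      rw [hd, add_comm N d, Function.iterate_add_apply, (he x).2, ← Function.iterate_add_apply]
    refine ⟨h1, h2, fun y hy hyx => ?_⟩
    obtain ⟨y', rfl⟩ := hy
    refine hinj M _ _ ?_ (he x).1 (hyx.trans h2.symm)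
    exact ⟨t^[d] y', by rw [← Function.iterate_add_apply, ← hd]⟩
  · have h : iter t N ≫ e' = iter t N := ArtLib.hom_ext' fun x => by
      show e (iter t N x) = iter t N x
      exact (heu _ _ ⟨x, (iter_apply t N x).symm⟩ rfl).symm
    conv_lhs => rw [← map_iter t z hz N]
    rw [← ArtLib.map_comp_apply, h, map_iter t z hz N]

end MinVersLib
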