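import Groth.Agent.MinVersLib.Endo

/-!
# Existence of a minimal versal family as a retract of a versal family
-/

set_option autoImplicit false
set_option linter.style.haveILetI false

universe u v

open CategoryTheory

namespace MinVersLib

open ArtFun ArtFun.Art

variable {Λ : Type u} {k : Type u} [CommRing Λ] [Field k] [Algebra Λ k]
variable {F : Art Λ k ⥤ Type v}

theorem along_toFormalElt {R S : CRing Λ k} (ξ : Family R.carrier R.res F) (g : R.carrier →ₐ[Λ] S.carrier)
    (hg : S.res.comp g = R.res) : (ξ.along g hg).toFormalElt = ξ.toFormalElt.push g hg :=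
  FormalElt.ext' fun n => by
    change ξ.app _ _ = F.map _ (ξ.app _ (R.truncHom n))
    rw [← ξ.natural]
    exact congrArg _ (ArtLib.homSet_ext fun _ => rfl)

/-- A formal element is pushed forward from a versal family, with prescribed start. -/
theorem exists_push_of_versal {R S : CRing Λ k} {ξ : Family R.carrier R.res F} (hξ : IsVersal ξ)
    (u : FormalElt F S) (n₀ : ℕ) (ψ₀ : HomSet R.carrier R.res (S.trunc n₀))
    (h₀ : ξ.app _ ψ₀ = u.elt n₀) :
    ∃ (g : R.carrier →ₐ[Λ] S.carrier) (hg : S.res.comp g = R.res),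
      (∀ r, (S.truncHom n₀).1 (g r) = ψ₀.1 r) ∧ ξ.toFormalElt.push g hg = u := by
  have hts : ∀ n, Function.Surjective (S.truncMap n) := fun n x => by
    obtain ⟨r, rfl⟩ := ArtLib.truncHom_surjective S n x
    exact ⟨(S.truncHom (n + 1)).1 r, rfl⟩
  have step : ∀ j (φ : {φ : HomSet R.carrier R.res (S.trunc (n₀ + j)) // ξ.app _ φ = u.elt (n₀ + j)}),
      ∃ φ' : {φ : HomSet R.carrier R.res (S.trunc (n₀ + (j + 1))) // ξ.app _ φ = u.elt (n₀ + (j + 1))},
        HomSet.map (S.truncMap (n₀ + j)) φ'.1 = φ.1 := fun j φ => by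
    obtain ⟨ψ, h₁, h₂⟩ := hξ (S.truncMap (n₀ + j)) (hts _) φ.1 (u.elt (n₀ + (j + 1)))
      ((u.compat _).trans φ.2.symm)
    exact ⟨⟨ψ, h₂⟩, h₁⟩
  choose nx hnx using step
  let ψ : ∀ j, {φ : HomSet R.carrier R.res (S.trunc (n₀ + j)) // ξ.app _ φ = u.elt (n₀ + j)} :=
    fun j => Nat.rec ⟨ψ₀, h₀⟩ (fun j φ => nx j φ) j
  choose t ht htu using fun n => ArtLib.exists_trunc_trans u n (n₀ + n) (Nat.le_add_left n n₀)
  have hts' : ∀ n s, t n ((S.truncHom (n₀ + n)).1 s) = (S.truncHom n).1 s := fun n s =>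
    AlgHom.congr_fun (congrArg Subtype.val (ht n)) s
  have hstep : ∀ j r s, (ψ (j + 1)).1.1 r = (S.truncHom (n₀ + (j + 1))).1 s →
      (ψ j).1.1 r = (S.truncHom (n₀ + j)).1 s := fun j r s h => by
    rw [← hnx j (ψ j)]
    exact (congrArg (S.truncMap (n₀ + j)) h).trans rfl
  have hcompat : ∀ n, HomSet.map (S.truncMap n) (HomSet.map (t (n + 1)) (ψ (n + 1)).1) =
      HomSet.map (t n) (ψ n).1 := fun n => ArtLib.homSet_ext fun r => by
    obtain ⟨s, hs⟩ := ArtLib.truncHom_surjective S _ ((ψ (n + 1)).1.1 r)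
    change S.truncMap n (t (n + 1) ((ψ (n + 1)).1.1 r)) = t n ((ψ n).1.1 r)
    rw [← hs, hts', hstep n r s hs.symm, hts']
    rfl
  obtain ⟨g, hg, hgψ⟩ := ArtLib.exists_hom_of_compatible S (fun n => HomSet.map (t n) (ψ n).1) hcompat
  refine ⟨g, hg, fun r => ?_, ?_⟩
  · have key : ∀ j r s, (ψ j).1.1 r = (S.truncHom (n₀ + j)).1 s → ψ₀.1 r = (S.truncHom n₀).1 s := by
      intro j
      induction j with
      | zero => exact fun _ _ h => h
      | succ j ih => exact fun r s h => ih r s (hstep j r s h)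
    obtain ⟨s, hs⟩ := ArtLib.truncHom_surjective S _ ((ψ n₀).1.1 r)
    rw [key n₀ r s hs.symm, hgψ]
    change t n₀ ((ψ n₀).1.1 r) = _
    rw [← hs, hts']
  · rw [← along_toFormalElt]
    refine FormalElt.ext' fun n => ?_
    have h1 : (ξ.along g hg).toFormalElt.elt n = ξ.app _ (HomSet.map (t n) (ψ n).1) :=
      congrArg (ξ.app _) (ArtLib.homSet_ext fun r => hgψ n r)
    rw [h1, ξ.natural, (ψ n).2, htu]

theorem retract_isAdicComplete {R S : Type u} [CommRing R] [CommRing S] [IsLocalRing R] [IsLocalRing S]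
    [IsAdicComplete (IsLocalRing.maximalIdeal R) R] (p : R →+* S) (g : S →+* R) [IsLocalHom p]
    [IsLocalHom g] (hpg : ∀ s, p (g s) = s) :
    IsAdicComplete (IsLocalRing.maximalIdeal S) S := by
  have hmap : ∀ {A B : Type u} [CommRing A] [CommRing B] [IsLocalRing A] [IsLocalRing B] (f : A →+* B)
      [IsLocalHom f] (n : ℕ), ∀ x ∈ IsLocalRing.maximalIdeal A ^ n, f x ∈ IsLocalRing.maximalIdeal B ^ n :=
    fun f _ n x hx => by
      have h1 := Ideal.mem_map_of_mem f hx
      rw [Ideal.map_pow] at h1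
      exact Ideal.pow_right_mono (((IsLocalRing.local_hom_TFAE f).out 0 2).1 ‹_›) n h1
  refine { haus' := fun s hs => ?_, prec' := fun a ha => ?_ }
  · have h : g s = 0 := IsHausdorff.haus' (I := IsLocalRing.maximalIdeal R) (g s) fun n => by
      have := hs n
      rw [SModEq.sub_mem, smul_eq_mul, Ideal.mul_top, sub_zero] at this ⊢
      exact hmap g n s this
    rw [← hpg s, h, map_zero]
  · obtain ⟨L, hL⟩ := IsPrecomplete.prec' (I := IsLocalRing.maximalIdeal R) (fun n => g (a n))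
      fun {m n} h => by
        have := ha h
        rw [SModEq.sub_mem, smul_eq_mul, Ideal.mul_top] at this ⊢
        rw [← map_sub]
        exact hmap g m _ this
    refine ⟨p L, fun n => ?_⟩
    have := hL n
    rw [SModEq.sub_mem, smul_eq_mul, Ideal.mul_top] at this ⊢
    have h2 := hmap p n _ this
    rwa [map_sub, hpg] at h2

theorem isLocalHom_of_res {R S : CRing Λ k} (f : R.carrier →ₐ[Λ] S.carrier) (hf : S.res.comp f = R.res) :
    IsLocalHom (f : R.carrier →+* S.carrier) := ⟨fun a ha => by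
  by_contra h
  refine (IsLocalRing.mem_maximalIdeal _).1 (ArtLib.map_le_of_res f hf
    (Ideal.mem_map_of_mem f ((IsLocalRing.mem_maximalIdeal _).2 h))) ha⟩

/-- The quotient by the kernel of an idempotent endomorphism. -/
theorem exists_retract (R : CRing Λ k) (e : R.carrier →ₐ[Λ] R.carrier) (he : R.res.comp e = R.res)
    (hee : ∀ r, e (e r) = e r) :
    ∃ (S : CRing Λ k) (p : R.carrier →ₐ[Λ] S.carrier) (g : S.carrier →ₐ[Λ] R.carrier),
      S.res.comp p = R.res ∧ R.res.comp g = S.res ∧ (∀ s, p (g s) = s) ∧ ∀ r, g (p r) = e r := by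
  let K := RingHom.ker e
  let g : (R.carrier ⧸ K) →ₐ[Λ] R.carrier := Ideal.Quotient.liftₐ K e fun a ha => ha
  let p : R.carrier →ₐ[Λ] (R.carrier ⧸ K) := Ideal.Quotient.mkₐ Λ K
  have hpg : ∀ s, p (g s) = s := fun s => by
    obtain ⟨r, rfl⟩ := Ideal.Quotient.mk_surjective s
    refine Ideal.Quotient.eq.2 ?_
    show e (e r - r) = 0
    rw [map_sub, hee, sub_self]
  have hK : K ≠ ⊤ := fun h => by
    have h1 : (1 : R.carrier) ∈ K := h ▸ Submodule.mem_top
    exact one_ne_zero ((map_one e).symm.trans h1)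
  haveI : Nontrivial (R.carrier ⧸ K) := Ideal.Quotient.nontrivial_iff.2 hK
  haveI : IsLocalRing (R.carrier ⧸ K) := IsLocalRing.of_surjective' (Ideal.Quotient.mk K) Ideal.Quotient.mk_surjective
  have hsurj : Function.Surjective (R.res.comp g) := fun c => by
    obtain ⟨r, hr⟩ := R.res_surjective c
    exact ⟨p r, (AlgHom.congr_fun he r).trans hr⟩
  haveI : IsLocalHom p.toRingHom := IsLocalHom.of_surjective _ Ideal.Quotient.mk_surjective
  haveI : IsLocalHom g.toRingHom := ⟨fun a ha => by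
    have := ha.map p
    rwa [show g.toRingHom a = g a from rfl, hpg] at this⟩
  have := R.isAdicComplete
  exact ⟨{ carrier := R.carrier ⧸ K, res := R.res.comp g, res_surjective := hsurj,
           isAdicComplete := retract_isAdicComplete p.toRingHom g.toRingHom hpg },
    p, g, AlgHom.ext fun r => AlgHom.congr_fun he r, rfl, hpg, fun _ => rfl⟩

/-- A versal family has a minimal versal family as a retract. -/
theorem exists_minimal [IsNoetherianRing Λ] [Module.Finite Λ k] (h0 : H0 F) {R : CRing Λ k}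
    (ξ : Family R.carrier R.res F) (hξ : IsVersal ξ) :
    ∃ (S : CRing Λ k) (ξ' : Family S.carrier S.res F) (p : R.carrier →ₐ[Λ] S.carrier)
      (g : S.carrier →ₐ[Λ] R.carrier) (hg : R.res.comp g = S.res),
      ξ'.IsMinimalVersal ∧ S.res.comp p = R.res ∧ (∀ s, p (g s) = s) ∧ ξ'.along g hg = ξ := by
  classical
  haveI := isArtinian_carrier (R.trunc 1)
  let I : Set (R.carrier →ₐ[Λ] R.carrier) :=
    {e | ∃ he : R.res.comp e = R.res, ξ.toFormalElt.push e he = ξ.toFormalElt ∧ ∀ r, e (e r) = e r}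
  let rg : (R.carrier →ₐ[Λ] R.carrier) → Submodule Λ (R.trunc 1) := fun e =>
    LinearMap.range (((R.truncHom 1).1.comp e).toLinearMap)
  obtain ⟨_, ⟨e, ⟨he, hu, hee⟩, rfl⟩, hmin⟩ := IsArtinian.set_has_minimal (rg '' I)
    ⟨_, AlgHom.id Λ _, ⟨AlgHom.comp_id _, push_id _ _, fun _ => rfl⟩, rfl⟩
  obtain ⟨S, p, g, hp, hg, hpg, hgp⟩ := exists_retract R e he hee
  let ξ' : Family S.carrier S.res F := ξ.along p hp
  have hge : g.comp p = e := AlgHom.ext hgp
  have hback : ξ'.along g hg = ξ := by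
    apply ArtLib.toFormalElt_injective R F
    show (ξ'.along g hg).toFormalElt = ξ.toFormalElt
    rw [along_toFormalElt, along_toFormalElt, push_push _ p hp g hg (hge ▸ he)]
    simp only [hge]
    exact hu
  have hvers : IsVersal ξ' := by
    intro B A μ hμ φ y hy
    obtain ⟨ψ, h1, h2⟩ := hξ μ hμ ⟨φ.1.comp p, by rw [← AlgHom.comp_assoc, φ.2, hp]⟩ y hy
    refine ⟨⟨ψ.1.comp g, by rw [← AlgHom.comp_assoc, ψ.2, hg]⟩, ArtLib.homSet_ext fun s => ?_, ?_⟩
    · exact (AlgHom.congr_fun (congrArg Subtype.val h1) (g s)).trans (congrArg φ.1 (hpg s))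
    · rw [← h2]
      exact congrArg (fun ζ : Family R.carrier R.res F => ζ.app B ψ) hback
  refine ⟨S, ξ', p, g, hg, ⟨hvers, fun R' u f hf hfu => ?_⟩, hp, hpg, hback⟩
  obtain ⟨ψ₀, hψ₀⟩ := ArtLib.surjective_app_of_versal h0 ξ' hvers (R'.trunc 0) (u.elt 0)
  obtain ⟨h, hh, -, hhu⟩ := exists_push_of_versal hvers u 0 ψ₀ hψ₀
  have hσ : S.res.comp (f.comp h) = S.res := by rw [← AlgHom.comp_assoc, hf, hh]
  have hσu : ξ'.toFormalElt.push (f.comp h) hσ = ξ'.toFormalElt := by
    rw [← push_push _ h hh f hf hσ, hhu, hfu]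
  suffices Function.Surjective (f.comp h) from fun s => by
    obtain ⟨x, hx⟩ := this s
    exact ⟨h x, hx⟩
  generalize f.comp h = σ at hσ hσu
  let θ : R.carrier →ₐ[Λ] R.carrier := g.comp (σ.comp p)
  have hθ : R.res.comp θ = R.res := by
    rw [← AlgHom.comp_assoc, hg, ← AlgHom.comp_assoc, hσ, hp]
  have hθu : ξ.toFormalElt.push θ hθ = ξ.toFormalElt := by
    have hp1 : S.res.comp (σ.comp p) = R.res := by rw [← AlgHom.comp_assoc, hσ, hp]
    rw [← push_push _ (σ.comp p) hp1 g hg hθ, ← push_push _ p hp σ hσ hp1, ← along_toFormalElt ξ p hp,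
      hσu, ← along_toFormalElt, hback]
  obtain ⟨e', he', hu', hee', hrange⟩ := exists_idem_endo _ θ hθ hθu
  have hsub : rg e' ≤ rg e := by
    rintro _ ⟨r, rfl⟩
    obtain ⟨z, hz⟩ := hrange r
    refine ⟨g (σ (p z)), ?_⟩
    show (R.truncHom 1).1 (e (g (σ (p z)))) = (R.truncHom 1).1 (e' r)
    rw [← hgp, hpg, eq_comm, ← sub_eq_zero, ← map_sub]
    exact (ArtLib.truncHom_eq_zero R 1 _).2 hz
  have heq : rg e' = rg e := eq_of_le_of_not_lt hsub (hmin _ ⟨e', ⟨he', hu', hee'⟩, rfl⟩)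
  refine ArtLib.cring_surjective_of_cotangent σ hσ fun x hx => ?_
  have hxm : (R.truncHom 1).1 (e (g x)) ∈ rg e := ⟨g x, rfl⟩
  rw [← heq] at hxm
  obtain ⟨r, hr⟩ := hxm
  obtain ⟨z, hz⟩ := hrange r
  have h1 : e (g x) - θ z ∈ IsLocalRing.maximalIdeal R.carrier ^ 2 := by
    have h2 : e' r - e (g x) ∈ IsLocalRing.maximalIdeal R.carrier ^ 2 :=
      (ArtLib.truncHom_eq_zero R 1 _).1 (by rw [map_sub, sub_eq_zero]; exact hr)
    rw [show e (g x) - θ z = e' r - θ z - (e' r - e (g x)) by ring]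
    exact sub_mem hz h2
  rw [← hgp, hpg] at h1
  have h3 : x - σ (p z) ∈ IsLocalRing.maximalIdeal S.carrier ^ 2 := by
    have h4 := Ideal.mem_map_of_mem p h1
    rw [Ideal.map_pow, map_sub, hpg, show θ z = g (σ (p z)) from rfl, hpg] at h4
    exact Ideal.pow_right_mono (ArtLib.map_le_of_res p hp) 2 h4
  have hzm : p z ∈ IsLocalRing.maximalIdeal S.carrier := by
    rw [CRing.mem_maximalIdeal_iff] at hx ⊢
    have h5 := (CRing.mem_maximalIdeal_iff _ _).1 (Ideal.pow_le_self two_ne_zero h3)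
    rw [map_sub, hx, zero_sub, neg_eq_zero, CRing.res_comp_apply σ hσ] at h5
    exact h5
  exact Submodule.mem_sup.2
    ⟨σ (p z), Ideal.mem_map_of_mem σ hzm, x - σ (p z), h3, add_sub_cancel _ _⟩

end MinVersLib
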